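import Cfsg.Agent.JTJ.Rel
import Cfsg.Agent.JTJ.L0

set_option autoImplicit false
set_option Elab.async false
set_option maxRecDepth 100000
set_option linter.all false

namespace Cfsg.Agent.JTJ
open Cfsg.Agent.CGT

noncomputable def l1_n7 : Net := Net.cons 1 0x1 <|
  Net.nil
noncomputable def l1_ns : List Net := [Net.nil, Net.nil, Net.nil, Net.nil, Net.nil, Net.nil, Net.nil, l1_n7, Net.nil, Net.nil, Net.nil]
noncomputable def l1_R : List (List ℕ) := [[0, 0], [6, 6], [8, 8], [14, 14], [20, 20], [4, 4, 4], [0, 4, 0, 5], [6, 4, 6, 5], [0, 6, 0, 6, 0, 6, 0, 6], [0, 6, 0, 6, 8], [14, 0, 14, 6], [14, 4, 14, 4], [8, 0, 8, 0], [8, 6, 8, 6], [8, 4, 8, 5], [14, 8, 14, 8], [16, 16, 16], [16, 4, 17, 5], [6, 16, 6, 16], [16, 8, 17, 0], [16, 0, 17, 0, 8], [20, 4, 20, 5], [20, 16, 20, 16], [20, 0, 20, 0, 20, 0, 20, 0, 20, 0], [20, 8, 20, 8, 20, 8], [20, 8, 0, 20, 8, 0, 20, 8, 0, 20, 8, 0, 20, 8, 0], [20, 6, 20, 6, 20,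 6], [14, 16, 14, 0, 20, 0, 6, 0, 20]]
noncomputable def l1_S0 : List (List ℕ) := [[0], [4], [6], [8], [16], [20]]
noncomputable def l1_T : Tab := (.leaf 0x120000090000090900000d0000090000001100000d0000000d00000f0000001100000f000000110000110900000d000011050000110000110700001100000d0400000f00000f0400000f00000d0100000d00000d0700000d000009090000090000090700000900000904000009000009010000090000000600000000000009000000000000070000000000000400000000000001000000000000100000000000000e0000000000000c0000000000000a00000000000000)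
noncomputable def l1_S : STC := ⟨l1_T, (.node 7 (.node 3 (.node 1 (.leaf 0x0) (.node 1 (.leaf 0xb010b01002) (.leaf 0xd040d04002))) (.node 2 (.node 1 (.leaf 0xf070f07002) (.leaf 0x11091109002)) (.node 1 (.leaf 0x406010604060106004) (.leaf 0x90104010901060706090104010901060706009)))) (.node 4 (.node 2 (.node 1 (.leaf 0x709070907090709004) (.leaf 0x704070407040704004)) (.node 1 (.leaf 0x5040104010504010401005) (.leaf 0x40904090409040904090409006))) (.node 2 (.node 1 (.leaf 0x108050701080507004) (.leaf 0x4040404002)) (.node 1 (.leaf 0x9090909002) (.leaf 0x609061206090612004))))), 0x121310110e0f0c0d0a0b09070806050402030100, [[], [0], [4], [5], [6], [8], [14], [16], [17], [20], [0], [0], [6], [6], [16], [17], [20], [20], [14, 20, 14], [14, 20, 14]], [10, 12, 14, 16]⟩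
noncomputable def l1_W : List (List ℕ) := [[14, 20, 14]]
theorem l1_h : l1_S.hypOK [0, 6, 8, 14, 20] l1_R l1_S0 = true := by decide +kernel
theorem l1_c0 : l1_S.checks [0x2000, 0x1000, 0x1000, 0x1000, 0x1000, 0x300003001, 0x500004001, 0x700005001, 0x900006001, 0x0, 0x1200000d00001300407003, 0x1200000b00001300c07003, 0x1200001100000b00000d00000b00001100000b00001300408008, 0x0, 0x1a00001800001b00409003, 0x0, 0x1e00001a00001500001200000e00001300001b00001f01808008, 0x0, 0x2200001c0000230040a003, 0x2200001f00002100001e0100b004, 0x2200001a00001700001b0000230080c005, 0x1e00001d0000260000240000d004, 0x2100002b0000220000e003, 0x2c00002b00002002, 0x1b00002f00002800002e0000f004, 0x3100001a0000f002, 0x1300003200001200010003] 0 27 = true := by decide +kernel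
theorem l1_g : l1_S.goals l1_W 27 = true := by decide +kernel
theorem l1_mem {G : Type*} [Group G] {γ : ℕ → G} (hR : Holds (ext γ) l1_R) {H : Subgroup G}
    (hS : ∀ u ∈ l1_S0, ev (ext γ) u ∈ H) : ∀ u ∈ l1_W, ev (ext γ) u ∈ H :=
  have hy := STC.hypOK_sound hR hS l1_h
  STC.Upto.goals ((STC.upto_zero).step hy l1_c0) l1_g
noncomputable def l1_E : Enum := ⟨l1_ns, l1_R, l1_S0 ++ l1_W, [], 0⟩
theorem l1_v : validAll (2 ^ 3) l1_ns = true := by decide +kernel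
theorem l1_p0 : holdsB 3 l1_ns l1_R = true := by decide +kernel
theorem l1_p : Holds (lp l1_ns) l1_R := holdsB_sound l1_v l1_p0
theorem l1_f : allL l1_E.Sub (fixN l1_E.ns l1_E.b0) = true := by decide +kernel
theorem l1_r0 : l1_E.run [58, 12, 3, 7, 17, 11, 15, 19, 65, 23, 4123, 4136, 12328, 4140, 17, 4156, 4204, 65] (1 <<< 0) (List.replicate 22 0) (Enum.done 2 [0, 4, 6, 8, 14, 16, 20]) = true := by decide +kernel
theorem l1_fin {G : Type*} [Group G] {γ : ℕ → G} (hR : Holds (ext γ) l1_R) {H : Subgroup G}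
    (hS : ∀ u ∈ l1_S0, ev (ext γ) u ∈ H) : l1_E.Fin γ H 2 [0, 4, 6, 8, 14, 16, 20] :=
  have hy : l1_E.Hyp γ H := Enum.hyp_of l1_v hR l1_p (forall_mem_append' hS (l1_mem hR hS)) l1_f
  (Enum.fin_of_done hy (Enum.inv_init 22) l1_r0)
noncomputable def l2_n2 : Net := Net.cons 1 0x1 <|
  Net.cons 2 0x1 <|
  Net.nil
noncomputable def l2_ns : List Net := [Net.nil, Net.nil, l2_n2, Net.nil, Net.nil, Net.nil, Net.nil, Net.nil, Net.nil, Net.nil, Net.nil]
noncomputable def l2_R : List (List ℕ) := [[0, 0], [6, 6], [8, 8], [20, 20], [4, 4, 4], [0, 4, 0, 5], [6, 4, 6, 5], [0, 6, 0, 6, 0, 6, 0, 6], [0, 6, 0, 6, 8], [8, 0, 8, 0], [8, 6, 8, 6], [8, 4, 8, 5], [16, 16, 16], [16, 4, 17, 5], [6, 16, 6, 16], [16, 8, 17, 0], [16, 0, 17, 0, 8], [20, 4, 20, 5], [20, 16, 20, 16], [20, 0, 20, 0, 20, 0, 20, 0, 20, 0], [20, 8, 20, 8, 20, 8], [20, 8, 0, 20, 8, 0, 20, 8, 0, 20, 8, 0, 20, 8, 0], [20, 6, 20, 6, 20, 6]]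
noncomputable def l2_S0 : List (List ℕ) := [[0], [6], [8], [16], [20]]
noncomputable def l2_E : Enum := ⟨l2_ns, l2_R, l2_S0, [], 0⟩
theorem l2_v : validAll (2 ^ 3) l2_ns = true := by decide +kernel
theorem l2_p0 : holdsB 3 l2_ns l2_R = true := by decide +kernel
theorem l2_p : Holds (lp l2_ns) l2_R := holdsB_sound l2_v l2_p0
theorem l2_f : allL l2_E.Sub (fixN l2_E.ns l2_E.b0) = true := by decide +kernel
theorem l2_r0 : l2_E.run [18, 17, 22, 21, 16, 17, 3, 7, 11, 15, 65, 19, 20, 8212, 24, 8216, 44, 8236, 52, 65, 8244, 69, 68, 8260] (1 <<< 0) (List.replicate 22 0) (Enum.done 3 [0, 4, 6, 8, 16, 20]) = true := by decide +kernel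
theorem l2_fin {G : Type*} [Group G] {γ : ℕ → G} (hR : Holds (ext γ) l2_R) {H : Subgroup G}
    (hS : ∀ u ∈ l2_S0, ev (ext γ) u ∈ H) : l2_E.Fin γ H 3 [0, 4, 6, 8, 16, 20] :=
  have hy : l2_E.Hyp γ H := Enum.hyp_of l2_v hR l2_p hS l2_f
  (Enum.fin_of_done hy (Enum.inv_init 22) l2_r0)
noncomputable def l3_n0 : Net := Net.cons 8 0x26 <|
  Net.cons 4 0x602 <|
  Net.cons 2 0x2002 <|
  Net.cons 1 0x4504 <|
  Net.cons 2 0x2012 <|
  Net.cons 4 0x60a <|
  Net.cons 8 0x26 <|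
  Net.nil
noncomputable def l3_n3 : Net := Net.cons 8 0x3e <|
  Net.cons 4 0x400 <|
  Net.cons 2 0x2002 <|
  Net.cons 1 0x4054 <|
  Net.cons 2 0x2202 <|
  Net.cons 4 0x500 <|
  Net.cons 8 0x3e <|
  Net.nil
noncomputable def l3_n4 : Net := Net.cons 8 0x8 <|
  Net.cons 4 0x20a <|
  Net.cons 1 0x1510 <|
  Net.cons 2 0x302 <|
  Net.cons 4 0x20e <|
  Net.cons 8 0x8 <|
  Net.nil
noncomputable def l3_n8 : Net := Net.cons 8 0xee <|
  Net.cons 4 0xe00 <|
  Net.cons 2 0x220 <|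
  Net.cons 1 0x144 <|
  Net.cons 2 0x1032 <|
  Net.cons 4 0xa00 <|
  Net.cons 8 0xbe <|
  Net.nil
noncomputable def l3_n10 : Net := Net.cons 8 0xb0 <|
  Net.cons 4 0x400 <|
  Net.cons 2 0x200 <|
  Net.cons 1 0x4111 <|
  Net.cons 2 0x200 <|
  Net.cons 4 0x604 <|
  Net.cons 8 0xb0 <|
  Net.nil
noncomputable def l3_ns : List Net := [l3_n0, Net.nil, Net.nil, l3_n3, l3_n4, Net.nil, Net.nil, Net.nil, l3_n8, Net.nil, l3_n10]
noncomputable def l3_R : List (List ℕ) := [[0, 0], [6, 6], [8, 8], [20, 20], [0, 6, 0, 6, 0, 6, 0, 6], [0, 6, 0, 6, 8], [8, 0, 8, 0], [8, 6, 8, 6], [16, 16, 16], [6, 16, 6, 16], [16, 8, 17, 0], [16, 0, 17, 0, 8], [20, 16, 20, 16], [20, 0, 20, 0, 20, 0, 20, 0, 20, 0], [20, 8, 20, 8, 20, 8], [20, 8, 0, 20, 8, 0, 20, 8, 0, 20, 8, 0, 20, 8, 0], [20, 6, 20, 6, 20, 6]]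
noncomputable def l3_S0 : List (List ℕ) := [[0], [6], [8], [16]]
noncomputable def l3_E : Enum := ⟨l3_ns, l3_R, l3_S0, [], 0⟩
theorem l3_v : validAll (2 ^ 4) l3_ns = true := by decide +kernel
theorem l3_p0 : holdsB 4 l3_ns l3_R = true := by decide +kernel
theorem l3_p : Holds (lp l3_ns) l3_R := holdsB_sound l3_v l3_p0
theorem l3_f : allL l3_E.Sub (fixN l3_E.ns l3_E.b0) = true := by decide +kernel
theorem l3_r0 : l3_E.run [82, 12, 2, 0, 26, 4, 34, 8, 82, 12, 2, 0, 26, 4, 4120, 4124, 20, 3, 7, 11, 15, 65, 4144, 65, 4132, 65, 40, 65, 4144, 65, 4132, 65, 40, 65, 4144, 65, 56, 64, 4160, 36, 4, 48, 12, 4152, 24, 12328, 4116, 16404, 8, 44, 65, 12332, 32, 65, 56, 48] (1 <<< 0) (List.replicate 22 0) (Enum.done 15 [0, 6, 8, 16, 20]) = true := by decide +kernel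
theorem l3_fin {G : Type*} [Group G] {γ : ℕ → G} (hR : Holds (ext γ) l3_R) {H : Subgroup G}
    (hS : ∀ u ∈ l3_S0, ev (ext γ) u ∈ H) : l3_E.Fin γ H 15 [0, 6, 8, 16, 20] :=
  have hy : l3_E.Hyp γ H := Enum.hyp_of l3_v hR l3_p hS l3_f
  (Enum.fin_of_done hy (Enum.inv_init 22) l3_r0)
noncomputable def l4_n3 : Net := Net.cons 2 0x2 <|
  Net.cons 1 0x4 <|
  Net.cons 2 0x2 <|
  Net.nil
noncomputable def l4_n8 : Net := Net.cons 1 0x1 <|
  Net.cons 2 0x1 <|
  Net.nil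
noncomputable def l4_ns : List Net := [Net.nil, Net.nil, Net.nil, l4_n3, Net.nil, Net.nil, Net.nil, Net.nil, l4_n8, Net.nil, Net.nil]
noncomputable def l4_R : List (List ℕ) := [[0, 0], [6, 6], [8, 8], [0, 6, 0, 6, 0, 6, 0, 6], [0, 6, 0, 6, 8], [8, 0, 8, 0], [8, 6, 8, 6], [16, 16, 16], [6, 16, 6, 16], [16, 8, 17, 0], [16, 0, 17, 0, 8]]
noncomputable def l4_S0 : List (List ℕ) := [[0], [6], [8]]
noncomputable def l4_E : Enum := ⟨l4_ns, l4_R, l4_S0, [], 0⟩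
theorem l4_v : validAll (2 ^ 3) l4_ns = true := by decide +kernel
theorem l4_p0 : holdsB 3 l4_ns l4_R = true := by decide +kernel
theorem l4_p : Holds (lp l4_ns) l4_R := holdsB_sound l4_v l4_p0
theorem l4_f : allL l4_E.Sub (fixN l4_E.ns l4_E.b0) = true := by decide +kernel
theorem l4_r0 : l4_E.run [66, 65, 70, 69, 28, 65, 3, 7, 11, 32, 4, 4132, 12324, 24, 12324] (1 <<< 0) (List.replicate 19 0) (Enum.done 3 [0, 6, 8, 16]) = true := by decide +kernel
theorem l4_fin {G : Type*} [Group G] {γ : ℕ → G} (hR : Holds (ext γ) l4_R) {H : Subgroup G}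
    (hS : ∀ u ∈ l4_S0, ev (ext γ) u ∈ H) : l4_E.Fin γ H 3 [0, 6, 8, 16] :=
  have hy : l4_E.Hyp γ H := Enum.hyp_of l4_v hR l4_p hS l4_f
  (Enum.fin_of_done hy (Enum.inv_init 19) l4_r0)
noncomputable def l5_n3 : Net := Net.cons 1 0x1 <|
  Net.nil
noncomputable def l5_ns : List Net := [Net.nil, Net.nil, Net.nil, l5_n3, Net.nil, Net.nil, Net.nil, Net.nil, Net.nil, Net.nil, Net.nil]
noncomputable def l5_R : List (List ℕ) := [[0, 0], [6, 6], [8, 8], [0, 6, 0, 6, 0, 6, 0, 6], [0, 6, 0, 6, 8], [8, 0, 8, 0], [8, 6, 8, 6]]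
noncomputable def l5_S0 : List (List ℕ) := [[0], [8]]
noncomputable def l5_E : Enum := ⟨l5_ns, l5_R, l5_S0, [], 0⟩
theorem l5_v : validAll (2 ^ 3) l5_ns = true := by decide +kernel
theorem l5_p0 : holdsB 3 l5_ns l5_R = true := by decide +kernel
theorem l5_p : Holds (lp l5_ns) l5_R := holdsB_sound l5_v l5_p0
theorem l5_f : allL l5_E.Sub (fixN l5_E.ns l5_E.b0) = true := by decide +kernel
theorem l5_r0 : l5_E.run [26, 4, 3, 7, 24, 16] (1 <<< 0) (List.replicate 10 0) (Enum.done 2 [0, 6, 8]) = true := by decide +kernel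
theorem l5_fin {G : Type*} [Group G] {γ : ℕ → G} (hR : Holds (ext γ) l5_R) {H : Subgroup G}
    (hS : ∀ u ∈ l5_S0, ev (ext γ) u ∈ H) : l5_E.Fin γ H 2 [0, 6, 8] :=
  have hy : l5_E.Hyp γ H := Enum.hyp_of l5_v hR l5_p hS l5_f
  (Enum.fin_of_done hy (Enum.inv_init 10) l5_r0)
noncomputable def l6_n0 : Net := Net.cons 1 0x5 <|
  Net.nil
noncomputable def l6_n4 : Net := Net.cons 2 0x3 <|
  Net.nil
noncomputable def l6_ns : List Net := [l6_n0, Net.nil, Net.nil, Net.nil, l6_n4, Net.nil, Net.nil, Net.nil, Net.nil, Net.nil, Net.nil]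
noncomputable def l6_R : List (List ℕ) := [[0, 0], [8, 8], [8, 0, 8, 0]]
noncomputable def l6_S0 : List (List ℕ) := []
noncomputable def l6_E : Enum := ⟨l6_ns, l6_R, l6_S0, [], 0⟩
theorem l6_v : validAll (2 ^ 3) l6_ns = true := by decide +kernel
theorem l6_p0 : holdsB 3 l6_ns l6_R = true := by decide +kernel
theorem l6_p : Holds (lp l6_ns) l6_R := holdsB_sound l6_v l6_p0
theorem l6_f : allL l6_E.Sub (fixN l6_E.ns l6_E.b0) = true := by decide +kernel
theorem l6_r0 : l6_E.run [2, 0, 34, 4, 4104] (1 <<< 0) (List.replicate 10 0) (Enum.done 4 [0, 8]) = true := by decide +kernel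
theorem l6_fin {G : Type*} [Group G] {γ : ℕ → G} (hR : Holds (ext γ) l6_R) {H : Subgroup G}
    (hS : ∀ u ∈ l6_S0, ev (ext γ) u ∈ H) : l6_E.Fin γ H 4 [0, 8] :=
  have hy : l6_E.Hyp γ H := Enum.hyp_of l6_v hR l6_p hS l6_f
  (Enum.fin_of_done hy (Enum.inv_init 10) l6_r0)
theorem bd6 {G : Type*} [Group G] {γ : ℕ → G} (hR : Holds (ext γ) RR) : Bd (gp γ [0, 8]) 4 :=
  Bd.step (l6_fin (hR.subR (by decide +kernel)) (wordsIn_sound γ (L := []) (by decide +kernel))) (Bd.gp_nil γ) (by norm_num)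
theorem bd5 {G : Type*} [Group G] {γ : ℕ → G} (hR : Holds (ext γ) RR) : Bd (gp γ [0, 6, 8]) 8 :=
  Bd.step (l5_fin (hR.subR (by decide +kernel)) (wordsIn_sound γ (L := [0, 8]) (by decide +kernel))) (bd6 hR) (by norm_num)
theorem bd4 {G : Type*} [Group G] {γ : ℕ → G} (hR : Holds (ext γ) RR) : Bd (gp γ [0, 6, 8, 16]) 24 :=
  Bd.step (l4_fin (hR.subR (by decide +kernel)) (wordsIn_sound γ (L := [0, 6, 8]) (by decide +kernel))) (bd5 hR) (by norm_num)
theorem bd3 {G : Type*} [Group G] {γ : ℕ → G} (hR : Holds (ext γ) RR) : Bd (gp γ [0, 6, 8, 16, 20]) 360 :=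
  Bd.step (l3_fin (hR.subR (by decide +kernel)) (wordsIn_sound γ (L := [0, 6, 8, 16]) (by decide +kernel))) (bd4 hR) (by norm_num)
theorem bd2 {G : Type*} [Group G] {γ : ℕ → G} (hR : Holds (ext γ) RR) : Bd (gp γ [0, 4, 6, 8, 16, 20]) 1080 :=
  Bd.step (l2_fin (hR.subR (by decide +kernel)) (wordsIn_sound γ (L := [0, 6, 8, 16, 20]) (by decide +kernel))) (bd3 hR) (by norm_num)
theorem bd1 {G : Type*} [Group G] {γ : ℕ → G} (hR : Holds (ext γ) RR) : Bd (gp γ [0, 4, 6, 8, 14, 16, 20]) 2160 :=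
  Bd.step (l1_fin (hR.subR (by decide +kernel)) (wordsIn_sound γ (L := [0, 4, 6, 8, 16, 20]) (by decide +kernel))) (bd2 hR) (by norm_num)
theorem bd0 {G : Type*} [Group G] {γ : ℕ → G} (hR : Holds (ext γ) RR) : Bd (gp γ [0, 2, 4, 6, 8, 10, 12, 14, 16, 18, 20]) 50232960 :=
  Bd.step (l0_fin (hR.subR (by decide +kernel)) (wordsIn_sound γ (L := [0, 4, 6, 8, 14, 16, 20]) (by decide +kernel))) (bd1 hR) (by norm_num)

end Cfsg.Agent.JTJ
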