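import Cfsg.Agent.JTJ.Cert
import Cfsg.Agent.CGT.Orc

set_option autoImplicit false
set_option Elab.async false
set_option maxRecDepth 100000
set_option linter.all false

namespace Cfsg.Agent.JTJ
open Cfsg.Agent.CGT

noncomputable def c17_l0 : Level := ⟨0, [[0], [2], [4], [6], [8], [10], [12], [14], [16], [18], [20]], [0, 1, 2, 3, 4, 5, 8, 10, 9, 1, 7, 6, 10, 9, 1, 6], 0xffffffffffffffffffffffffffffffffffffffffffffffffffffffffffffffffffffffffffffffffffffffffffffffffffffffffffffffffffffffffffffffffffffffffffffffffffffffffffffffffffffffffffffffffffffffffffffffffffffffffffffffffffffffffffffffffffffffffffffffffffffffffffffffffffffffffffffffffffffffffffffffffffffffffffffffffffffffffffffffffffffffffffffffffffffffffffffffffffffffffffffffffffffffffffffffffffffffffffffffffffffffffffffffffffffffffffffffffffffffffffffffffffffffffffffffffffffffffffffffffffffffffffffffffffffffffffffffffffffffffffffffffffffffffffffffffffffffffffffffffffffffffffffffffffffffffffffffffffff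fffffffffffffffffffffffffffffffffffffffffffffffffffffffffffffffffffffffffffffffffffffffffffffffffffffffffffffffffffffffffffffffffffffffffffffffffffffffffffffffffffffffffffffffffffffffffffffffffffffffffffffffffffffffffffffffffffffffffffffffffffffffffffffffffffffffffffffffffffffffffffffffffffffffffffffffffffffffffffffffffffffffffffffffffffffffffffffffffffffffffffffffffffffffffffffffffffffffffffffffffffffffffffffffffffffffffffffffffffffffffffffffffffffffffffffffffffffffffffffffffffffffffffffffffffffffffffffffffffffffffffffffffffffffffffffffffffffffffffffffffffffffffffffffffffffffffffffffffffffffffffffffffffffffffffffffffffffffffffffffffffffffffffffffffffffffffffffffffffffffffffffffffffffffffffffffffffffffffffffffffffffffffffffffffffffffffffffffffffffffffffffffffffffffffffffffffffffffffffffffffffffffffffffffffffffffffffffffffffffffffffffffffffffffffffffffffffffffffffffffffffffffffffffffffffffffffffffffffffffffffffffffffffffffffffffff, 6156⟩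
noncomputable def c17_l1 : Level := ⟨2617, [[15, 10, 14], [13, 7, 16, 12], [7, 0, 2, 18], [2, 15, 20, 16, 10]], [0, 1, 2, 0, 3, 1, 0, 2, 1, 0, 3, 2, 0, 1, 0, 2], 0xf9f3ffbfeffb9fbf03fead73ffffef7f77e7fffa91fffe0bf22ab97fd9a041e83c43f3286a67dbffffebe0e703daf806e1044fde54ffffffffffff77ffcbcf7ffffff3ffffff810dfd3e0f2ffd7bff88f6f77e01e6c4145c6e7fef7dff64fbff7fc6bb18b8f1f25f007ffe97ec00e1e1fff70023d7081f5197d8ffe0521c3fb3ffffcff7f26b001481194d072047f0813d90c78641ff029c80000c0d3ff10ed00e861f7ebfd801ffffffffeffdfffd9bdffefee0b737f14482aabfff97302183219402200444ffe1fe8404415d1c4402c242198a400480427a2807440200002101c0020e8002401b006a41002009ec1fb4b1fffffe3bbf0805efffcf8001f60fe4077e108100b2043fd81000022cffa47bfbfffffffbff7d00e88d8fffb8081f9b6b7c3ff97efffffed8e7fe50ef6021bc000c0c0009b44200cd2401e266d06a0000e49308022a07fc2bc7a6235f17719fc758800122000678c300003a4f442220a406e007e60480008800001405c770400fc0421618d0400802010e10401e00ccc50410000081008202003d00010d4008020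07411c04002093ff401a07a20110eff02003acffc9e164fde10ee9106863270930a0004200131c5200000104000000000001c288000010800010008004008081100000000105000000200200000004400000002b011440001000fff3f008087fe6e00183b810e24000440103d0000000270a2fffff88080105ee00003dc2181c627f40b81d110480002000200020a880040000101e013a00210488048400000001188000420010001838100100000000018a4000018a48000000000040010484000000000200080000410011e8420000074000010e32681104208040000004100000000000001000000000000000040000000000000000080400001ee001c30460c00001000087f00060304430904000002000001090040000004000001000000004000400000040000000000800040010800000000000000000000000000000c2880000c2410000010000000000000000000000000000000000080040000000000000000000000000000000000000, 2040⟩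
noncomputable def c17_l2 : Level := ⟨2092, [[18, 14, 18, 3, 20, 14, 3, 20]], [], 0x10000000000000000000000000000000000000000000000000000000000000000000000000000000000000000000000010000000000000000000000000000000000000000000000000000000000000000000000000000000000000000000000000000000000000000000000000000000000000000010000000000000000000000000000000000000000000000000000000000000000000000000000000000000000000000000000000000000000000000000000000000000000000000000000000000000000000000000000000000000000000000000000100000000000000000000000000000000000000000000000000000000000000000000000000000000000000000000, 4⟩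
noncomputable def c17_ls : List Level := [c17_l0, c17_l1, c17_l2]
noncomputable def c17_S : Srch := ⟨13, m_ts, (chainBase [] c_ls), [12, 20], [12, 20], []⟩
noncomputable def c17_lk : List ℕ := [1, 2618]
noncomputable def c17_tl : List Level := [c17_l1, c17_l2]
noncomputable def c17_R0 : ℕ := 0x8004000000000000000120802000000110220000204001001000000000000000000020000000001000010400400000000000000002000008000800004020000000010000808810008000020000100000000000c00000000200008000008000000d2002000040100100800000804000000800000000100200000000041000008008000000000000002408000000200080000000400000400400110000004c000240004400000000200000160000020b800100004080024040000040000200000000c0800000000000000020000c0000080002040000080000200040000000000040011800010200010000010000020000000080000004100040000428400000001000000001000060100000004000110000100022008000000090000000000000000000610044000802004000820000000202110000200008400001002000000800000004000080200000000a0000000080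00004400804082108000008000000002000000420820400020000000c00080600000120004060000000000100000000000000001001000080000020060000000000000100400080000a000000000000500000b00001020000000008000002020340000801004000800000001000000100000082020000800000006241800200410060020000080000000400000004000000000000000200010000000000004418900000000220004200048800000000000000040000000001800000280003001000910000008402000a0800000100001320000020000000000000000000000822008001010000000020000000000021000100000440000000002000100000200000000010000010010000000200000000000000000200008001000280001022000000000000000005050040002102000611028000408000000800000008000000c0000000000100040000002100000004000000800000012080000000000040000000a00100000000000000400000000001000080040002000800000020000001004800000000000000000029000004000000404000000000600004001214002100000684000104000001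
noncomputable def c19_l0 : Level := ⟨0, [[0], [2], [4], [6], [8], [10], [12], [14], [16], [18], [20]], [0, 1, 2, 3, 4, 5, 8, 10, 9, 1, 7, 6, 10, 9, 1, 6], 0xffffffffffffffffffffffffffffffffffffffffffffffffffffffffffffffffffffffffffffffffffffffffffffffffffffffffffffffffffffffffffffffffffffffffffffffffffffffffffffffffffffffffffffffffffffffffffffffffffffffffffffffffffffffffffffffffffffffffffffffffffffffffffffffffffffffffffffffffffffffffffffffffffffffffffffffffffffffffffffffffffffffffffffffffffffffffffffffffffffffffffffffffffffffffffffffffffffffffffffffffffffffffffffffffffffffffffffffffffffffffffffffffffffffffffffffffffffffffffffffffffffffffffffffffffffffffffffffffffffffffffffffffffffffffffffffffffffffffffffffffffffffffffffffffffffffffffffffffffffffffffffffffffffffffffffffffffffffffffffffffffffffffffffffffffffffffffffffffffffffffffffffffffffffffffffffffffffffffffffffffffffffffffffffffffffffffffffffffffffffffffffffffffffffffffffffffffffffffffffffffffffffffffff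fffffffffffffffffffffffffffffffffffffffffffffffffffffffffffffffffffffffffffffffffffffffffffffffffffffffffffffffffffffffffffffffffffffffffffffffffffffffffffffffffffffffffffffffffffffffffffffffffffffffffffffffffffffffffffffffffffffffffffffffffffffffffffffffffffffffffffffffffffffffffffffffffffffffffffffffffffffffffffffffffffffffffffffffffffffffffffffffffffffffffffffffffffffffffffffffffffffffffffffffffffffffffffffffffffffffffffffffffffffffffffffffffffffffffffffffffffffffffffffffffffffffffffffffffffffffffffffffffffffffffffffffffffffffffffffffffffffffffffffffffffffffffffffffffffffffffffffffffffffffffffffffffffffffffffffffffffffffffffffffffffffffffffffffffffffffffffffffffffffffffffffffffffffffffffffffffffffffffffffffffffffff, 6156⟩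
noncomputable def c19_l1 : Level := ⟨2877, [[15, 10, 14], [13, 7, 16, 12], [7, 0, 2, 18], [2, 15, 20, 16, 10]], [0, 1, 2, 0, 3, 2, 0, 1, 2, 0, 3, 2, 0, 1, 0, 1], 0xf9f3ffbfeffb9fbf03fead73ffffef7f77e7fffa91fffe0bf22ab97fd9a041e83c43f3286a67dbffffebe0e703daf806e1044fde54ffffffffffff77ffcbcf7ffffff3ffffff810dfd3e0f2ffd7bff88f6f77e01e6c4145c6e7fef7dff64fbff7fc6bb18b8f1f25f007ffe97ec00e1e1fff70023d7081f5197d8ffe0521c3fb3ffffcff7f26b001481194d072047f0813d90c78641ff029c80000c0d3ff10ed00e861f7ebfd801ffffffffeffdfffd9bdffefee0b737f14482aabfff97302183219402200444ffe1fe8404415d1c4402c242198a400480427a2807440200002101c0020e8002401b006a41002009ec1fb4b1fffffe3bbf0805efffcf8001f60fe4077e108100b2043fd81000022cffa47bfbfffffffbff7d00e88d8fffb8081f9b6b7c3ff97efffffed8e7fe50ef6021bc000c0c0009b44200cd2401e266d06a0000e49308022a07fc2bc7a6235f17719fc758800122000678c300003a4f442220a406e007e60480008800001405c770400fc0421618d0400802010e10401e00ccc50410000081008202003d00010d4008020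07411c04002093ff401a07a20110eff02003acffc9e164fde10ee9106863270930a0004200131c5200000104000000000001c288000010800010008004008081100000000105000000200200000004400000002b011440001000fff3f008087fe6e00183b810e24000440103d0000000270a2fffff88080105ee00003dc2181c627f40b81d110480002000200020a880040000101e013a00210488048400000001188000420010001838100100000000018a4000018a48000000000040010484000000000200080000410011e8420000074000010e32681104208040000004100000000000001000000000000000040000000000000000080400001ee001c30460c00001000087f00060304430904000002000001090040000004000001000000004000400000040000000000800040010800000000000000000000000000000c2880000c2410000010000000000000000000000000000000000080040000000000000000000000000000000000000, 2040⟩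
noncomputable def c19_l2 : Level := ⟨4830, [[20, 3, 16, 3, 12, 18, 10, 3, 12]], [], 0x40000000000000000000000000000000000000000000000000000000000000000000000000000000000000000000000000000000000000000000000000000000000000000000000000000000000000000000000000000000000000000000000000000000000000000000000000000000000000000000000000000000000000000000000000000000000000000000000000000000000000000000000000000000000200000000000000000000000000000000000000000000000000000000000000000000000000000000000000000000000000000000000000000000000000000000000000000000000000000010000000000000000000000000000000000000000000000000000000000000000000000000000000000000000000000000000000000000000000000000000000000000000000000000000000000000000000000000000000000000000000000000000000000000000000000000000000000000000000000000000000000000000000000000000000000000000000000000000000000000000000000000000000000000000000000000000000000000000000000000000000000000000000000000000000000000000000000000000000000000000000000000000000000000000000000000000000000000000000000000000000000000000000000000000000000000000000000000000000000000000000000008000000000000000000000000000000000000000000000000000000000000000000000000000000000000000000000000000000000000000000000000000000000000000000000000000000000000000000000000000000000000,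 4⟩
noncomputable def c19_ls : List Level := [c19_l0, c19_l1, c19_l2]
noncomputable def c19_S : Srch := ⟨13, m_ts, (chainBase [] c_ls), [2, 16], [2, 16], []⟩
noncomputable def c19_lk : List ℕ := [1, 2878]
noncomputable def c19_tl : List Level := [c19_l1, c19_l2]
noncomputable def c19_R0 : ℕ := 0x40000024200000000240820000041000000000000000000000000005000004000a000000000000001002000000004000000004000000002000000002000000000000200c01000000102000000000000000800a0041800081080001080002000000000000000010080104000400000080000000002020004800044000800000000000000000080100000000022008000000040000000000200000001000002400014000040002000010600000009020000002000002040010040080200000100800200000050000000a000000001000002040280080040200040000000000440020a000102000100000100000a0000010088000040000082100c000000000000000000000020001000008008001100002040220080000000020000000000000000104120440008020000808000000100000000002000004400000020000008000000040800004000000028000000010200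4044000000800000002020801000220000004088044010020000000000006000000200000800000005101000000000100080018800000800000200000000000008041004000001000800000800000400000a0080000000000000000000a0000408000042000000000000010000001000000020000000408000042018041004000000040000800000004000020040080000000000020008000000000400120000000000000000000000008000000000800000400000000018000002000030800008000000084000000880000000000110000000000000021000000002000002200a00001000000200000000004800182114000000000000000208000000120000000001800001020000000020080400200008000002000800100000040102000000000000000000010000000200000040000810002800080000400000000100080000000000005000011080000000004000001802000012000000480000040200200200000000000000000420000000001000080800000000000000020000001010000000004000000000001000104000000000000000000440004001000002010000280000000002001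
theorem c17_l0_ok : (ptsOK 13 [] && (wordsIn [0, 2, 4, 6, 8, 10, 12, 14, 16, 18, 20] c17_l0.S && c17_l0.ok 13 m_ns m_ts [])) = true := by decide +kernel
theorem c17_l1_ok : (ptsOK 13 [0] && (wordsIn [0, 2, 4, 6, 8, 10, 12, 14, 16, 18, 20] c17_l1.S && c17_l1.ok 13 m_ns m_ts [0])) = true := by decide +kernel
theorem c17_l2_ok : c17_l2.okT 13 m_ts [0, 2, 4, 6, 8, 10, 12, 14, 16, 18, 20] [2617, 0] (.cons [0] (.cons [0] .nil .nil) (.cons [1] .nil .nil)) = true := by decide +kernel
theorem c17_aux : c17_S.auxB [0, 2, 4, 6, 8, 10, 12, 14, 16, 18, 20] c17_ls [] (0 :: c17_lk) = true := by decide +kernel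
theorem c17_cov : Nat.beq (Nat.land c17_l0.O (Srch.cover m_ns (invW c17_S.u') c17_R0 16)) c17_l0.O = true := by decide +kernel
theorem c17_r0 : c17_S.run (.cons [] (.cons [] (.cons [] (.leaf 2000) .nil) .nil) (.cons [0] .nil (.cons [2] .nil (.cons [3] (.cons [7, 0, 5, 5, 5] .nil .nil) (.cons [4] (.cons [6, 0, 5, 2] .nil .nil) (.cons [5] (.cons [4, 4, 6, 0] .nil .nil) (.cons [6] .nil (.cons [8] .nil (.cons [10] .nil (.cons [14] (.cons [4, 0, 2, 0, 7] .nil .nil) (.cons [16] .nil (.cons [17] .nil (.cons [18] .nil (.cons [0, 18] .nil (.cons [3, 18] (.cons [7, 7, 4, 4] .nil .nil) (.cons [4, 18] .nil (.cons [5, 18] (.cons [0, 5, 6, 0, 4] .nil .nil) (.cons [6, 18] (.cons [2, 5, 5, 2] .nil .nil) (.cons [8, 18] .nil (.cons [10, 18] .nil (.cons [12, 18] .nil (.cons [14, 18] .nil (.cons [16, 18] (.cons [0, 7, 2, 4] .nil .nil) (.cons [17, 18] .nil (.cons [0, 12] .nil (.cons [2, 12] .nil (.cons [3, 12] .nil (.cons [4, 12] .nil (.cons [5, 12] .nil (.cons [6, 12] .nil (.cons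 [8, 12] .nil (.cons [10, 12] (.cons [7, 4, 4, 4, 2] .nil .nil) (.cons [14, 12] (.cons [0, 4, 0, 4] .nil .nil) (.cons [17, 12] (.cons [6, 5, 2, 0] .nil .nil) (.cons [18, 12] .nil (.cons [3, 3] .nil (.cons [4, 3] .nil (.cons [5, 3] (.cons [2, 0, 5, 0] .nil .nil) (.cons [6, 3] .nil (.cons [8, 3] (.cons [4, 2, 5, 5, 5, 0] .nil .nil) (.cons [10, 3] .nil (.cons [12, 3] (.cons [2, 4, 6, 0, 5] .nil .nil) (.cons [14, 3] .nil (.cons [16, 3] (.cons [4, 0, 4, 0, 6, 4] .nil .nil) (.cons [17, 3] .nil (.cons [18, 3] .nil (.cons [0, 14] .nil (.cons [2, 14] .nil (.cons [3, 14] .nil (.cons [4, 14] .nil (.cons [6, 14] .nil (.cons [8, 14] (.cons [7, 4, 4, 6, 0] .nil .nil) (.cons [16, 14] .nil (.cons [17, 14] (.cons [5, 0, 6, 0, 4] .nil .nil) (.cons [0, 4] .nil (.cons [2, 4] .nil (.cons [6, 4] (.cons [0, 5, 5, 0, 2] .nil .nil) (.cons [8, 4] (.cons [5, 7, 5, 2] .nil .nil) (.cons [10, 4] .nil (.cons [12, 4] (.cons [4, 0, 4, 0, 5, 2] .nil .nil) (.cons [16, 4] .nil (.cons [17, 4]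 .nil (.cons [18, 4] .nil (.cons [0, 2] .nil (.cons [2, 2] .nil (.cons [4, 2] .nil (.cons [5, 2] .nil (.cons [6, 2] .nil (.cons [8, 2] .nil (.cons [10, 2] (.cons [0, 5, 6, 0, 4] .nil .nil) (.cons [12, 2] .nil (.cons [17, 2] .nil (.cons [0, 17] (.cons [4, 4, 2, 0] .nil .nil) (.cons [5, 17] (.cons [2, 4, 0, 2, 7, 0] .nil .nil) (.cons [6, 17] .nil (.cons [8, 17] .nil (.cons [10, 17] .nil (.cons [12, 17] .nil (.cons [14, 17] .nil (.cons [0, 5] (.cons [4, 7, 2, 0, 4] .nil .nil) (.cons [2, 5] (.cons [7, 2, 4, 0, 6] .nil .nil) (.cons [6, 5] .nil (.cons [12, 5] (.cons [4, 7, 0, 4, 4] .nil .nil) (.cons [16, 5] .nil (.cons [18, 5] .nil (.cons [2, 6] (.cons [5, 2, 0, 6] .nil .nil) (.cons [8, 6] .nil (.cons [12, 6] .nil (.cons [17, 6] .nil (.cons [18, 6] .nil (.cons [3, 0] .nil (.cons [6, 0] (.cons [5, 2, 4, 0, 2, 0] .nil .nil) (.cons [8, 0] .nil (.cons [16, 0] .nil (.cons [5, 10] (.cons [7, 2, 5, 0] .nil .nil) (.cons [8, 10] (.cons [6, 0, 2, 0, 4, 4] .nil .nil) (.cons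 [12, 10] .nil (.cons [16, 10] .nil (.cons [17, 10] .nil (.cons [0, 20] .nil (.cons [3, 20] .nil (.cons [6, 20] .nil (.cons [8, 20] (.cons [0, 7, 2, 0, 2] .nil .nil) (.cons [14, 20] .nil (.cons [17, 20] .nil (.cons [18, 20] .nil (.cons [0, 16] (.cons [4, 2, 5] .nil .nil) (.cons [3, 16] .nil (.cons [8, 16] .nil (.cons [10, 16] (.cons [6, 6, 4, 2] .nil .nil) (.cons [14, 16] .nil (.cons [17, 8] (.cons [5, 2, 7, 4, 4] .nil .nil) (.cons [0, 8, 3] .nil (.cons [4, 8, 3] .nil (.cons [5, 8, 3] .nil (.cons [6, 8, 3] (.cons [7, 2, 5, 2] .nil .nil) (.cons [10, 8, 3] .nil (.cons [12, 8, 3] (.cons [4, 4, 0, 5, 5] .nil .nil) (.cons [14, 8, 3] (.cons [4, 2, 6, 0, 2] .nil .nil) (.cons [16, 8, 3] .nil (.cons [0, 8, 20] .nil (.cons [3, 8, 20] (.cons [0, 5, 5, 5] .nil .nil) (.cons [5, 8, 20] .nil (.cons [12, 8, 20] (.cons [4, 0, 6, 4, 0] .nil .nil) (.cons [17, 8, 20] .nil (.cons [18, 8, 20] (.cons [7, 2, 5, 5] .nil .nil) (.cons [3, 5, 12] .nil (.cons [6, 5, 12] (.cons [2, 4, 2,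 4] .nil .nil) (.cons [12, 5, 12] .nil (.cons [17, 5, 12] (.cons [6, 5, 2, 0] .nil .nil) (.cons [4, 6, 0] .nil (.cons [5, 6, 0] (.cons [5, 0, 7, 2, 4] .nil .nil) (.cons [12, 6, 0] (.cons [6, 2, 4, 0, 5] .nil .nil) (.cons [14, 6, 0] .nil (.cons [16, 6, 0] .nil (.cons [17, 6, 0] .nil (.cons [18, 6, 0] .nil (.cons [3, 12, 4] .nil (.cons [5, 12, 4] .nil (.cons [6, 12, 4] (.cons [5, 0, 6, 2, 7] .nil .nil) (.cons [8, 12, 4] (.cons [0, 7, 7, 4, 4] .nil .nil) (.cons [10, 12, 4] (.cons [6, 4, 0, 2, 0, 5] .nil .nil) (.cons [14, 12, 4] (.cons [7, 7, 5, 0] .nil .nil) (.cons [18, 12, 4] (.cons [2, 0, 7, 4, 2] .nil .nil) (.cons [2, 16, 10] .nil (.cons [4, 16, 10] .nil (.cons [5, 16, 10] (.cons [0, 5, 0, 5, 5, 5] .nil .nil) (.cons [8, 16, 10] .nil (.cons [10, 16, 10] .nil (.cons [14, 16, 10] (.cons [6, 6, 0, 2, 0] .nil .nil) (.cons [18, 16, 10] .nil (.cons [3, 3, 14] (.cons [7, 2, 7] .nil .nil) (.cons [12, 3, 14] .nil (.cons [16, 3, 14] .nil (.cons [17, 3, 14] .nil (.cons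 [0, 5, 18] .nil (.cons [2, 5, 18] .nil (.cons [3, 5, 18] .nil (.cons [6, 5, 18] .nil (.cons [8, 5, 18] (.cons [5, 6, 5] .nil .nil) (.cons [10, 5, 18] .nil (.cons [14, 5, 18] .nil (.cons [17, 5, 18] (.cons [2, 6, 4, 0, 7] .nil .nil) (.cons [6, 18, 4] .nil (.cons [10, 18, 4] .nil (.cons [12, 18, 4] .nil (.cons [17, 18, 4] .nil (.cons [3, 10, 20] (.cons [5, 7, 2, 5, 0] .nil .nil) (.cons [5, 10, 20] .nil (.cons [12, 10, 20] .nil (.cons [16, 10, 20] .nil (.cons [18, 10, 20] .nil (.cons [0, 4, 18] .nil (.cons [2, 4, 18] .nil (.cons [6, 4, 18] .nil (.cons [8, 4, 18] (.cons [0, 4, 4, 4, 0] .nil .nil) (.cons [10, 4, 18] (.cons [2, 6, 0, 2] .nil .nil) (.cons [14, 4, 18] .nil (.cons [3, 20, 17] .nil (.cons [8, 20, 17] .nil (.cons [14, 20, 17] .nil (.cons [0, 10, 4] (.cons [0, 4, 6, 0, 2] .nil .nil) (.cons [3, 10, 4] .nil (.cons [6, 10, 4] (.cons [4, 6, 2, 0] .nil .nil) (.cons [8, 10, 4] (.cons [4, 0, 2, 5] .nil .nil) (.cons [12, 10, 4] .nil (.cons [3, 0, 14] (.cons [7,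 0, 5, 0, 2, 4] .nil .nil) (.cons [4, 0, 14] .nil (.cons [12, 0, 14] .nil (.cons [16, 0, 14] .nil (.cons [17, 0, 14] .nil (.cons [2, 16, 2] .nil (.cons [3, 16, 2] (.cons [6, 5, 2, 4] .nil .nil) (.cons [4, 16, 2] (.cons [0, 2, 5, 5, 2] .nil .nil) (.cons [6, 16, 2] (.cons [0, 2, 0, 2, 4, 2] .nil .nil) (.cons [8, 16, 2] (.cons [2, 4, 0, 6, 4] .nil .nil) (.cons [18, 16, 2] .nil (.cons [0, 14, 3] .nil (.cons [18, 14, 3] .nil (.cons [0, 12, 5] (.cons [6, 5, 2, 4] .nil .nil) (.cons [3, 12, 5] .nil (.cons [4, 12, 5] .nil (.cons [4, 2, 20] .nil (.cons [3, 5, 17] .nil (.cons [6, 5, 17] .nil (.cons [8, 5, 17] .nil (.cons [6, 4, 14] .nil (.cons [16, 4, 14] .nil (.cons [18, 4, 14] (.cons [4, 0, 5, 0, 5] .nil .nil) (.cons [0, 12, 18] .nil (.cons [5, 12, 18] .nil (.cons [6, 12, 18] .nil (.cons [10, 12, 18] (.cons [0, 4, 7, 5, 6] .nil .nil) (.cons [14, 12, 18] .nil (.cons [16, 12, 18] .nil (.cons [16, 6, 14] .nil (.cons [0, 10, 17] .nil (.cons [8, 10, 17] (.cons [0, 4, 0,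 6, 5] .nil .nil) (.cons [14, 10, 17] .nil (.cons [2, 0, 5] (.cons [4, 2, 7, 5, 6] .nil .nil) (.cons [18, 0, 5] (.cons [2, 0, 5, 5, 0, 4] .nil .nil) (.cons [0, 5, 10] .nil (.cons [6, 4, 3] (.cons [2, 5, 7, 0, 6] .nil .nil) (.cons [0, 6, 20] .nil (.cons [2, 6, 20] .nil (.cons [10, 6, 20] .nil (.cons [16, 6, 20] (.cons [4, 0, 5, 0, 2, 4] .nil .nil) (.cons [2, 2, 12] (.cons [0, 5, 0, 5] .nil .nil) (.cons [4, 2, 12] .nil (.cons [10, 2, 12] (.cons [2, 0, 5, 5, 0, 5] .nil .nil) (.cons [17, 2, 12] (.cons [7, 4, 0, 4, 4, 0] .nil .nil) (.cons [18, 2, 12] (.cons [2, 0, 6, 5, 7] .nil .nil) (.cons [2, 16, 5] .nil (.cons [6, 16, 5] .nil (.cons [8, 16, 5] .nil (.cons [12, 17, 14] (.cons [5, 0, 5, 5, 6] .nil .nil) (.cons [14, 17, 14] (.cons [6, 0, 6, 4] .nil .nil) (.cons [2, 18, 5] (.cons [5, 7, 4, 4, 2] .nil .nil) (.cons [10, 18, 5] .nil (.cons [6, 3, 17] .nil (.cons [17, 3, 17] (.cons [2, 5, 0, 6] .nil .nil) (.cons [18, 3, 17] (.cons [0, 6, 0, 7] .nil .nil) (.cons [0, 2,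 14] (.cons [2, 5, 7, 0, 4, 2] .nil .nil) (.cons [18, 2, 14] .nil (.cons [2, 18, 20] .nil (.cons [5, 18, 20] .nil (.cons [6, 18, 20] .nil (.cons [0, 2, 2] (.cons [6, 0, 6, 0, 7] .nil .nil) (.cons [8, 2, 2] .nil (.cons [18, 2, 2] .nil (.cons [2, 18, 2] (.cons [5, 0, 2, 0, 5] .nil .nil) (.cons [3, 18, 2] .nil (.cons [5, 18, 2] .nil (.cons [12, 18, 2] .nil (.cons [8, 0, 12] .nil (.cons [3, 6, 3] .nil (.cons [10, 6, 3] .nil (.cons [16, 6, 3] .nil (.cons [17, 6, 3] .nil (.cons [18, 6, 3] .nil (.cons [5, 8, 2] .nil (.cons [12, 8, 2] .nil (.cons [17, 8, 6] .nil (.cons [10, 0, 2] .nil (.cons [14, 17, 2] .nil (.cons [3, 20, 18] .nil (.cons [6, 20, 18] .nil (.cons [17, 20, 18] (.cons [2, 4, 0, 5, 0] .nil .nil) (.cons [6, 5, 2] .nil (.cons [0, 18, 12] (.cons [2, 6, 0, 2, 4] .nil .nil) (.cons [3, 18, 12] .nil (.cons [10, 18, 12] (.cons [2, 4, 4, 4] .nil .nil) (.cons [6, 14, 20] .nil (.cons [12, 14, 20] .nil (.cons [3, 18, 6] (.cons [4, 2, 5, 6] .nil .nil) (.cons [5, 18,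 6] .nil (.cons [16, 2, 6] .nil (.cons [10, 4, 12] (.cons [6, 2, 5, 5, 0] .nil .nil) (.cons [18, 4, 12] .nil (.cons [6, 17, 4] (.cons [5, 6, 6, 0] .nil .nil) (.cons [17, 2, 18] .nil (.cons [18, 2, 18] .nil (.cons [4, 12, 20] .nil (.cons [16, 12, 20] .nil (.cons [14, 20, 8] .nil (.cons [16, 20, 8] (.cons [4, 4, 4] .nil .nil) (.cons [16, 12, 6] .nil (.cons [12, 14, 16] .nil (.cons [18, 14, 16] .nil (.cons [17, 2, 16] .nil (.cons [2, 6, 2] .nil (.cons [10, 6, 2] .nil (.cons [16, 14, 10] .nil (.cons [5, 3, 20] .nil (.cons [18, 17, 10] .nil (.cons [4, 12, 14] .nil (.cons [2, 14, 18] (.cons [2, 7, 4] .nil .nil) (.cons [16, 14, 18] .nil (.cons [17, 14, 18] .nil (.cons [5, 12, 2] (.cons [5, 0, 7, 4, 0] .nil .nil) (.cons [16, 12, 2] .nil (.cons [16, 2, 4] (.cons [2, 0, 6, 5, 7] .nil .nil) (.cons [18, 8, 10] (.cons [2, 5, 5, 7, 4] .nil .nil) (.cons [18, 0, 20] .nil (.cons [2, 18, 14] .nil (.cons [2, 20, 10] .nil (.cons [8, 20, 3] .nil (.cons [18, 20, 3] .nil (.cons [6,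 10, 12] .nil (.cons [14, 10, 12] .nil (.cons [8, 20, 6] .nil (.cons [3, 16, 3] (.cons [0, 2, 5, 5, 2] .nil .nil) (.cons [17, 10, 18] .nil (.cons [16, 0, 18] .nil (.cons [18, 20, 5] (.cons [2, 0, 6, 5, 0] .nil .nil) (.cons [5, 12, 17] .nil (.cons [4, 3, 12] (.cons [4, 0, 5, 2] .nil .nil) (.cons [18, 3, 12] .nil (.cons [6, 3, 16] .nil (.cons [2, 12, 10] .nil (.cons [12, 14, 17] .nil (.cons [2, 20, 2] .nil (.cons [2, 2, 17] .nil (.cons [8, 16, 14] .nil (.cons [3, 17, 8] .nil (.cons [18, 3, 3] .nil (.cons [2, 17, 3] (.cons [2, 0, 4, 0, 6] .nil .nil) (.cons [18, 20, 4] (.cons [4, 7, 4, 2, 0] .nil .nil) (.cons [14, 20, 4, 14] .nil (.cons [2, 8, 16, 14] .nil (.cons [12, 8, 16, 14] .nil (.cons [3, 16, 3, 20] (.cons [7, 4, 2, 5, 2] .nil .nil) (.cons [8, 16, 3, 20] .nil (.cons [0, 20, 0, 2] .nil (.cons [3, 20, 0, 2] (.cons [6, 5, 6, 5, 2] .nil .nil) (.cons [0, 18, 6, 20] .nil (.cons [14, 18, 6, 20] .nil (.cons [5, 8, 10, 17] (.cons [] .nil .nil) (.cons [14, 8, 18, 5]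 .nil (.cons [14, 0, 16, 4] .nil (.cons [6, 18, 3, 3] .nil (.cons [12, 18, 3, 3] .nil (.cons [8, 17, 3, 18] (.cons [0, 5, 6, 5] .nil .nil) (.cons [10, 17, 3, 18] .nil (.cons [2, 16, 2, 20] .nil (.cons [8, 5, 20, 6] (.cons [4, 6, 4, 0, 5] .nil .nil) (.cons [5, 2, 18, 4] .nil (.cons [3, 20, 5, 18] (.cons [6, 4, 4, 2, 4] .nil .nil) (.cons [18, 10, 20, 6] .nil (.cons [18, 3, 18, 0] .nil (.cons [18, 17, 12, 4] (.cons [6, 2, 0, 4] .nil .nil) (.cons [8, 2, 12, 17] (.cons [4, 2, 5, 5, 5] .nil .nil) (.cons [5, 18, 6, 0] .nil (.cons [5, 2, 20, 6] .nil (.cons [14, 2, 20, 6] .nil (.cons [6, 20, 4, 18] (.cons [7, 4, 0, 4, 6] .nil .nil) (.cons [14, 20, 8, 5] (.cons [2, 5, 7] .nil .nil) (.cons [17, 18, 2, 12] .nil (.cons [3, 6, 16, 2] .nil (.cons [0, 14, 10, 20] .nil (.cons [10, 20, 2, 12] .nil (.cons [18, 14, 6, 0] .nil (.cons [17, 12, 10, 20] .nil (.cons [18, 10, 20, 14] .nil .nil))))))))))))))))))))))))))))))))))))))))))))))))))))))))))))))))))))))))))))))))))))))))))))))))))))))))))))))))))))))))))))))))))))))))))))))))))))))))))))))))))))))))))))))))))))))))))))))))))))))))))))))))))))))))))))))))))))))))))))))))))))))))))))))))))))))))))))))))))))))))))))))))))))))))))))))))))))))))))))))))))))))))))))))))))))))))))))))))))))))))))))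 (⟨c17_l0.b, c17_l0.S, [], c17_R0, 0⟩ :: c17_tl) (0 :: c17_lk) Pd.nil 0 = true := by decide +kernel
theorem c19_l0_ok : (ptsOK 13 [] && (wordsIn [0, 2, 4, 6, 8, 10, 12, 14, 16, 18, 20] c19_l0.S && c19_l0.ok 13 m_ns m_ts [])) = true := by decide +kernel
theorem c19_l1_ok : (ptsOK 13 [0] && (wordsIn [0, 2, 4, 6, 8, 10, 12, 14, 16, 18, 20] c19_l1.S && c19_l1.ok 13 m_ns m_ts [0])) = true := by decide +kernel
theorem c19_l2_ok : c19_l2.okT 13 m_ts [0, 2, 4, 6, 8, 10, 12, 14, 16, 18, 20] [2877, 0] (.cons [0] .nil (.cons [1] (.cons [1] .nil .nil) .nil)) = true := by decide +kernel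
theorem c19_aux : c19_S.auxB [0, 2, 4, 6, 8, 10, 12, 14, 16, 18, 20] c19_ls [] (0 :: c19_lk) = true := by decide +kernel
theorem c19_cov : Nat.beq (Nat.land c19_l0.O (Srch.cover m_ns (invW c19_S.u') c19_R0 18)) c19_l0.O = true := by decide +kernel
theorem c19_r0 : c19_S.run (.cons [] (.cons [] (.cons [] (.leaf 2000) .nil) .nil) (.cons [0] .nil (.cons [2] .nil (.cons [3] .nil (.cons [4] .nil (.cons [5] .nil (.cons [6] .nil (.cons [8] .nil (.cons [10] (.cons [6, 2, 6, 4] .nil .nil) (.cons [12] (.cons [4, 0, 4, 2, 0, 4] .nil .nil) (.cons [14] .nil (.cons [16] .nil (.cons [18] .nil (.cons [20] (.cons [2, 0, 2, 4] .nil .nil) (.cons [0, 18] .nil (.cons [2, 18] .nil (.cons [3, 18] .nil (.cons [4, 18] .nil (.cons [5, 18] .nil (.cons [6, 18] .nil (.cons [8, 18] .nil (.cons [10, 18] (.cons [2, 7, 0, 7, 4] .nil .nil) (.cons [14, 18] .nil (.cons [16, 18] .nil (.cons [20, 18] .nil (.cons [0, 12] .nil (.cons [3, 12] (.cons [4, 2, 0, 6, 5, 0] .nil .nil) (.cons [4, 12] (.cons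 [2, 4, 0, 2, 0] .nil .nil) (.cons [5, 12] (.cons [2, 5, 0, 4, 2] .nil .nil) (.cons [6, 12] .nil (.cons [8, 12] (.cons [7, 0, 6, 6] .nil .nil) (.cons [10, 12] (.cons [5, 0, 4, 0, 4] .nil .nil) (.cons [14, 12] .nil (.cons [18, 12] .nil (.cons [20, 12] (.cons [0, 4, 0, 4, 4] .nil .nil) (.cons [0, 3] .nil (.cons [3, 3] .nil (.cons [4, 3] .nil (.cons [5, 3] .nil (.cons [6, 3] (.cons [0, 2, 7, 0, 2] .nil .nil) (.cons [8, 3] (.cons [7, 5, 5, 2] .nil .nil) (.cons [10, 3] .nil (.cons [12, 3] .nil (.cons [14, 3] (.cons [2, 7, 0, 7, 0] .nil .nil) (.cons [16, 3] .nil (.cons [18, 3] .nil (.cons [20, 3] (.cons [0, 2, 7, 2, 5] .nil .nil) (.cons [0, 14] (.cons [5, 7, 4, 4, 6] .nil .nil) (.cons [2, 14] (.cons [2, 4, 0, 2, 7] .nil .nil) (.cons [3, 14] .nil (.cons [4, 14] .nil (.cons [6, 14] .nil (.cons [8, 14] .nil (.cons [12, 14] .nil (.cons [18, 14] .nil (.cons [2, 4] .nil (.cons [6, 4] .nil (.cons [8, 4] .nil (.cons [12, 4] .nil (.cons [16, 4] (.cons [0, 4, 2, 0] .nil .nil)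 (.cons [20, 4] .nil (.cons [0, 2] .nil (.cons [2, 2] .nil (.cons [4, 2] .nil (.cons [5, 2] .nil (.cons [6, 2] (.cons [5, 5, 7, 4] .nil .nil) (.cons [8, 2] (.cons [0, 2, 7, 2, 4] .nil .nil) (.cons [10, 2] .nil (.cons [12, 2] .nil (.cons [16, 2] .nil (.cons [18, 2] (.cons [5, 0, 4, 4] .nil .nil) (.cons [0, 17] .nil (.cons [3, 17] (.cons [2, 7, 4, 0] .nil .nil) (.cons [5, 17] .nil (.cons [6, 17] .nil (.cons [12, 17] .nil (.cons [14, 17] (.cons [2, 0, 5, 0, 4] .nil .nil) (.cons [20, 17] .nil (.cons [6, 5] (.cons [5, 7, 4] .nil .nil) (.cons [8, 5] (.cons [5, 2, 7, 2, 0] .nil .nil) (.cons [16, 5] .nil (.cons [18, 5] .nil (.cons [20, 5] .nil (.cons [2, 6] .nil (.cons [8, 6] .nil (.cons [12, 6] (.cons [4, 0, 4, 0] .nil .nil) (.cons [18, 6] .nil (.cons [20, 6] .nil (.cons [3, 0] .nil (.cons [6, 0] .nil (.cons [10, 0] (.cons [6, 2, 5, 7, 5] .nil .nil) (.cons [16, 0] .nil (.cons [18, 0] .nil (.cons [20, 0] (.cons [5, 0, 4] .nil .nil) (.cons [2, 10] (.cons [4, 4, 2, 4,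 7] .nil .nil) (.cons [8, 10] .nil (.cons [12, 10] .nil (.cons [14, 10] (.cons [5, 5, 5, 7, 0] .nil .nil) (.cons [20, 10] (.cons [5, 0, 4, 2, 6, 5] .nil .nil) (.cons [0, 20] (.cons [7, 5, 2, 5, 2] .nil .nil) (.cons [2, 20] (.cons [7, 0, 4, 0, 4] .nil .nil) (.cons [3, 20] .nil (.cons [6, 20] (.cons [6, 2, 4, 2, 0] .nil .nil) (.cons [8, 20] (.cons [7, 0, 5, 7, 7, 0] .nil .nil) (.cons [10, 20] .nil (.cons [0, 16] .nil (.cons [3, 16] (.cons [6, 4, 2, 5, 6] .nil .nil) (.cons [8, 16] .nil (.cons [0, 8, 3] (.cons [2, 6, 4, 0, 4, 0] .nil .nil) (.cons [3, 8, 3] .nil (.cons [5, 8, 3] .nil (.cons [6, 8, 3] .nil (.cons [12, 8, 3] .nil (.cons [14, 8, 3] .nil (.cons [16, 8, 3] .nil (.cons [20, 8, 3] .nil (.cons [2, 8, 20] .nil (.cons [6, 8, 20] (.cons [4, 4, 2, 5, 5, 7] .nil .nil) (.cons [10, 8, 20] (.cons [2, 0, 2, 0, 2] .nil .nil) (.cons [12, 8, 20] .nil (.cons [18, 8, 20] (.cons [0, 6, 0, 4, 6] .nil .nil) (.cons [20, 8, 20] (.cons [0, 6, 2, 0] .nil .nil) (.cons [0, 5,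 12] .nil (.cons [2, 5, 12] (.cons [0, 2, 6, 5, 0] .nil .nil) (.cons [3, 5, 12] (.cons [4, 0, 2, 5, 5] .nil .nil) (.cons [6, 5, 12] (.cons [0, 4, 2, 5, 0] .nil .nil) (.cons [10, 5, 12] .nil (.cons [18, 5, 12] .nil (.cons [20, 5, 12] (.cons [6, 5, 0, 7, 4] .nil .nil) (.cons [4, 6, 0] .nil (.cons [5, 6, 0] .nil (.cons [12, 6, 0] .nil (.cons [14, 6, 0] (.cons [0, 5, 2, 4, 0] .nil .nil) (.cons [16, 6, 0] .nil (.cons [18, 6, 0] .nil (.cons [20, 6, 0] .nil (.cons [5, 12, 4] .nil (.cons [6, 12, 4] .nil (.cons [8, 12, 4] (.cons [6, 5, 0, 7, 4] .nil .nil) (.cons [10, 12, 4] (.cons [5, 2, 5, 0, 2] .nil .nil) (.cons [16, 12, 4] .nil (.cons [20, 12, 4] .nil (.cons [0, 16, 10] .nil (.cons [6, 16, 10] .nil (.cons [12, 16, 10] (.cons [5, 2, 7, 4] .nil .nil) (.cons [0, 3, 14] (.cons [4, 0, 7, 0, 5] .nil .nil) (.cons [4, 3, 14] .nil (.cons [6, 3, 14] (.cons [2, 4, 0, 7] .nil .nil) (.cons [12, 3, 14] .nil (.cons [18, 3, 14] (.cons [2, 5, 6, 2] .nil .nil) (.cons [0, 5, 18] .nil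 (.cons [2, 5, 18] (.cons [5, 2, 7, 2] .nil .nil) (.cons [8, 5, 18] .nil (.cons [10, 5, 18] .nil (.cons [12, 5, 18] (.cons [6, 6, 0, 4, 4] .nil .nil) (.cons [3, 18, 4] (.cons [2, 6, 4, 4] .nil .nil) (.cons [6, 18, 4] .nil (.cons [12, 18, 4] .nil (.cons [0, 10, 20] .nil (.cons [3, 10, 20] (.cons [0, 4, 4, 6, 2, 0] .nil .nil) (.cons [5, 10, 20] (.cons [2, 5, 7, 4, 6] .nil .nil) (.cons [6, 10, 20] .nil (.cons [16, 10, 20] .nil (.cons [18, 10, 20] .nil (.cons [20, 10, 20] .nil (.cons [0, 4, 18] (.cons [7, 0, 5, 5, 0, 7] .nil .nil) (.cons [6, 4, 18] .nil (.cons [8, 4, 18] .nil (.cons [10, 4, 18] (.cons [0, 4, 2, 6] .nil .nil) (.cons [14, 4, 18] (.cons [4, 4, 4] .nil .nil) (.cons [20, 4, 18] .nil (.cons [4, 20, 17] .nil (.cons [8, 20, 17] .nil (.cons [12, 20, 17] .nil (.cons [18, 20, 17] .nil (.cons [0, 10, 4] .nil (.cons [12, 10, 4] .nil (.cons [20, 10, 4] (.cons [7, 7, 4, 2, 7] .nil .nil) (.cons [2, 0, 14] (.cons [4, 7, 4, 0, 7] .nil .nil) (.cons [3, 0, 14] .nil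 (.cons [5, 0, 14] .nil (.cons [8, 0, 14] .nil (.cons [12, 0, 14] .nil (.cons [16, 0, 14] .nil (.cons [18, 0, 14] .nil (.cons [0, 16, 2] .nil (.cons [3, 16, 2] .nil (.cons [8, 16, 2] (.cons [0, 6, 0, 7, 0] .nil .nil) (.cons [12, 16, 2] .nil (.cons [12, 14, 3] .nil (.cons [0, 12, 5] .nil (.cons [5, 12, 5] .nil (.cons [14, 12, 5] .nil (.cons [16, 12, 5] (.cons [4, 2, 7] .nil .nil) (.cons [20, 12, 5] .nil (.cons [0, 2, 20] .nil (.cons [4, 2, 20] .nil (.cons [10, 2, 20] .nil (.cons [12, 2, 20] .nil (.cons [18, 2, 20] .nil (.cons [0, 5, 17] .nil (.cons [3, 5, 17] (.cons [0, 2, 0, 4, 2, 5] .nil .nil) (.cons [6, 4, 14] (.cons [6, 5, 5, 5, 2, 0] .nil .nil) (.cons [12, 4, 14] (.cons [2, 5, 7, 0, 4, 0] .nil .nil) (.cons [0, 12, 18] (.cons [7, 0, 5, 7, 0] .nil .nil) (.cons [2, 12, 18] .nil (.cons [10, 12, 18] .nil (.cons [20, 12, 18] .nil (.cons [12, 10, 17] (.cons [4, 4, 2, 5] .nil .nil) (.cons [18, 10, 17] .nil (.cons [3, 0, 5] .nil (.cons [10, 0, 5] .nil (.cons [16,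 0, 5] .nil (.cons [18, 0, 5] .nil (.cons [20, 5, 10] .nil (.cons [0, 4, 3] .nil (.cons [16, 4, 3] .nil (.cons [6, 2, 10] .nil (.cons [8, 2, 10] .nil (.cons [18, 2, 10] .nil (.cons [0, 6, 20] (.cons [4, 7, 2, 5] .nil .nil) (.cons [4, 6, 20] .nil (.cons [16, 6, 20] .nil (.cons [14, 2, 12] .nil (.cons [0, 16, 5] .nil (.cons [12, 16, 5] .nil (.cons [3, 17, 14] .nil (.cons [12, 17, 14] (.cons [4, 0, 7, 7, 4] .nil .nil) (.cons [3, 18, 5] (.cons [4, 6, 5, 5] .nil .nil) (.cons [6, 3, 17] (.cons [0, 4, 6, 5, 6] .nil .nil) (.cons [18, 3, 17] .nil (.cons [8, 2, 14] .nil (.cons [16, 2, 14] .nil (.cons [18, 2, 14] .nil (.cons [6, 2, 2] .nil (.cons [12, 2, 2] .nil (.cons [10, 18, 2] .nil (.cons [12, 18, 2] (.cons [2, 4, 0, 2] .nil .nil) (.cons [8, 0, 12] (.cons [7, 7, 5, 6, 6] .nil .nil) (.cons [10, 0, 12] .nil (.cons [20, 0, 12] .nil (.cons [0, 6, 3] .nil (.cons [10, 6, 3] .nil (.cons [4, 8, 6] .nil (.cons [5, 8, 6] .nil (.cons [20, 8, 17] .nil (.cons [8, 20, 18] .nil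 (.cons [6, 5, 2] .nil (.cons [3, 18, 12] .nil (.cons [10, 18, 12] .nil (.cons [2, 14, 20] (.cons [4, 7, 0, 5] .nil .nil) (.cons [5, 2, 6] .nil (.cons [10, 2, 6] (.cons [2, 0, 4, 2, 0] .nil .nil) (.cons [10, 4, 12] .nil (.cons [18, 4, 12] .nil (.cons [20, 4, 12] .nil (.cons [3, 17, 4] .nil (.cons [4, 2, 18] .nil (.cons [10, 2, 18] (.cons [2, 0, 4, 4] .nil .nil) (.cons [16, 2, 18] (.cons [4, 0, 2, 4, 4] .nil .nil) (.cons [4, 12, 20] .nil (.cons [10, 12, 20] .nil (.cons [18, 12, 20] .nil (.cons [10, 8, 0] (.cons [6, 4, 4, 2] .nil .nil) (.cons [20, 14, 16] (.cons [6, 4, 4, 4, 7] .nil .nil) (.cons [12, 10, 3] (.cons [6, 5, 7, 4] .nil .nil) (.cons [18, 10, 3] .nil (.cons [4, 20, 0] .nil (.cons [14, 20, 0] .nil (.cons [14, 0, 17] .nil (.cons [2, 2, 16] .nil (.cons [20, 0, 3] .nil (.cons [18, 14, 10] .nil (.cons [8, 14, 12] .nil (.cons [12, 14, 12] .nil (.cons [18, 17, 10] (.cons [2, 5, 5, 6] .nil .nil) (.cons [3, 6, 18] .nil (.cons [5, 18, 3] .nil (.cons [6, 18,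 3] .nil (.cons [20, 18, 3] .nil (.cons [2, 12, 14] (.cons [4, 4, 6, 2, 0] .nil .nil) (.cons [5, 12, 14] .nil (.cons [16, 12, 14] .nil (.cons [3, 12, 2] (.cons [0, 2, 4, 0, 2] .nil .nil) (.cons [16, 2, 4] .nil (.cons [8, 20, 14] (.cons [4, 0, 2, 6] .nil .nil) (.cons [8, 18, 0] .nil (.cons [18, 0, 20] .nil (.cons [8, 20, 10] .nil (.cons [3, 20, 6] (.cons [0, 2, 5, 6, 5] .nil .nil) (.cons [4, 20, 6] (.cons [0, 5, 2, 7, 4] .nil .nil) (.cons [5, 20, 6] .nil (.cons [8, 16, 3] (.cons [0, 4, 0, 2, 6] .nil .nil) (.cons [6, 0, 18] (.cons [0, 4, 6, 5] .nil .nil) (.cons [20, 0, 18] .nil (.cons [6, 3, 18] (.cons [2, 5, 5, 7] .nil .nil) (.cons [8, 3, 18] .nil (.cons [12, 3, 18] .nil (.cons [14, 12, 3] (.cons [0, 7, 0, 5, 0] .nil .nil) (.cons [3, 12, 17] .nil (.cons [3, 12, 10] .nil (.cons [16, 14, 17] (.cons [4, 4, 0] .nil .nil) (.cons [10, 20, 2] (.cons [6, 0, 7, 5] .nil .nil) (.cons [3, 17, 3] .nil (.cons [18, 4, 6, 20] (.cons [4, 0, 4, 6, 0, 4] .nil .nil) (.cons [18,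 10, 14, 17] .nil (.cons [20, 8, 16, 14] (.cons [2, 0, 5, 2, 7] .nil .nil) (.cons [4, 20, 0, 2] .nil (.cons [12, 0, 2, 14] .nil (.cons [20, 0, 2, 14] (.cons [6, 0, 5, 0, 5, 6] .nil .nil) (.cons [6, 0, 16, 4] .nil (.cons [2, 18, 3, 3] .nil (.cons [10, 12, 0, 3] .nil (.cons [4, 10, 6, 20] (.cons [6, 2, 5, 7, 5] .nil .nil) (.cons [16, 10, 20, 6] .nil (.cons [8, 6, 12, 4] .nil (.cons [5, 20, 3, 18] .nil (.cons [10, 3, 16, 0] .nil (.cons [20, 14, 12, 16] .nil (.cons [14, 18, 14, 10] .nil (.cons [6, 20, 5, 3] .nil (.cons [12, 20, 4, 18] .nil (.cons [18, 8, 2, 14] .nil (.cons [3, 18, 14, 16] .nil .nil)))))))))))))))))))))))))))))))))))))))))))))))))))))))))))))))))))))))))))))))))))))))))))))))))))))))))))))))))))))))))))))))))))))))))))))))))))))))))))))))))))))))))))))))))))))))))))))))))))))))))))))))))))))))))))))))))))))))))))))))))))))))))))))))))))))))))))))))))))))))))))))))))))))))))))))))))))))))))))))))))))) (⟨c19_l0.b, c19_l0.S, [], c19_R0, 0⟩ :: c19_tl)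 (0 :: c19_lk) Pd.nil 0 = true := by decide +kernel
theorem c17_sound {G : Type*} [Group G] {φ : G →* Equiv.Perm ℕ} {γ : ℕ → G}
    (M : Model φ γ 13 m_ns m_ts) : ChainSound φ (gp γ [0, 2, 4, 6, 8, 10, 12, 14, 16, 18, 20]) 13 [] c17_ls :=
  ⟨Level.ok_sound' M c17_l0_ok,
   Level.ok_sound' M c17_l1_ok,
   Level.okT_sound M c17_l2_ok, trivial⟩
theorem c17_cent {G : Type*} [Group G] {φ : G →* Equiv.Perm ℕ} {γ : ℕ → G}
    (C : Cert φ γ 13 m_ns m_ts [0, 2, 4, 6, 8, 10, 12, 14, 16, 18, 20] c_ls) : Cent γ c17_S.u c17_S.Cl 16 :=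
  have X := (C.rechain (c17_sound C.M) (by decide +kernel)).exact
  have A := Srch.auxB_sound (S := c17_S) C.M (K := ⊤) le_top rfl c17_aux
  have F := fun {tr : Tr} {R : ℕ} => Srch.found_of_run (S := c17_S) C.M C.base (by decide +kernel) X A (tr := tr) (R := R)
  Cent.of_found (S := c17_S) C.M X rfl (F c17_r0) c17_cov
theorem a17 : ∃ a g : K, a ^ 17 = 1 ∧ a ≠ 1 ∧ (∀ c, Commute c a → c ∈ Subgroup.zpowers a) ∧
    ((a * (g * a * g⁻¹)) ^ 3) ^ 2 = 1 ∧ (a * (g * a * g⁻¹)) ^ 3 ≠ 1 := by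
  obtain ⟨φ, C⟩ := cert
  have q := fun u => C.eq_iff (u := u) (v := []) (by decide +kernel)
  refine ⟨ev (ext γ) c17_S.u, ev (ext γ) [0], ?_, ?_, (c17_cent C).zpowers, ?_, ?_⟩
  · rw [← ev_pw]; exact (q _).1 (by decide +kernel)
  · exact fun e => absurd ((q _).2 e) (by decide +kernel)
  · rw [← ev_invW, ← ev_app, ← ev_app, ← ev_app, ← ev_pw, ← ev_pw]; exact (q _).1 (by decide +kernel)
  · rw [← ev_invW, ← ev_app, ← ev_app, ← ev_app, ← ev_pw]
    exact fun e => absurd ((q _).2 e) (by decide +kernel)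
theorem c19_sound {G : Type*} [Group G] {φ : G →* Equiv.Perm ℕ} {γ : ℕ → G}
    (M : Model φ γ 13 m_ns m_ts) : ChainSound φ (gp γ [0, 2, 4, 6, 8, 10, 12, 14, 16, 18, 20]) 13 [] c19_ls :=
  ⟨Level.ok_sound' M c19_l0_ok,
   Level.ok_sound' M c19_l1_ok,
   Level.okT_sound M c19_l2_ok, trivial⟩
theorem c19_cent {G : Type*} [Group G] {φ : G →* Equiv.Perm ℕ} {γ : ℕ → G}
    (C : Cert φ γ 13 m_ns m_ts [0, 2, 4, 6, 8, 10, 12, 14, 16, 18, 20] c_ls) : Cent γ c19_S.u c19_S.Cl 18 :=
  have X := (C.rechain (c19_sound C.M) (by decide +kernel)).exact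
  have A := Srch.auxB_sound (S := c19_S) C.M (K := ⊤) le_top rfl c19_aux
  have F := fun {tr : Tr} {R : ℕ} => Srch.found_of_run (S := c19_S) C.M C.base (by decide +kernel) X A (tr := tr) (R := R)
  Cent.of_found (S := c19_S) C.M X rfl (F c19_r0) c19_cov
theorem a19 : ∃ a g : K, a ^ 19 = 1 ∧ a ≠ 1 ∧ (∀ c, Commute c a → c ∈ Subgroup.zpowers a) ∧
    ((a * (g * a * g⁻¹)) ^ 2) ^ 2 = 1 ∧ (a * (g * a * g⁻¹)) ^ 2 ≠ 1 := by
  obtain ⟨φ, C⟩ := cert
  have q := fun u => C.eq_iff (u := u) (v := []) (by decide +kernel)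
  refine ⟨ev (ext γ) c19_S.u, ev (ext γ) [18], ?_, ?_, (c19_cent C).zpowers, ?_, ?_⟩
  · rw [← ev_pw]; exact (q _).1 (by decide +kernel)
  · exact fun e => absurd ((q _).2 e) (by decide +kernel)
  · rw [← ev_invW, ← ev_app, ← ev_app, ← ev_app, ← ev_pw, ← ev_pw]; exact (q _).1 (by decide +kernel)
  · rw [← ev_invW, ← ev_app, ← ev_app, ← ev_app, ← ev_pw]
    exact fun e => absurd ((q _).2 e) (by decide +kernel)

end Cfsg.Agent.JTJ
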